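import Groth.Agent.Lib.CohDelta.FPApprox.Approx
import Mathlib.LinearAlgebra.Pi

/-!
# A quasi-coherent module on a qcqs scheme is a filtered colimit of finitely presented modules

The index is the poset of finite sets of "relations", a relation being a finite set of generators
together with a section of the kernel of the map it gives.
-/

set_option autoImplicit false
set_option linter.style.haveILetI false
universe u

open CategoryTheory CategoryTheory.Limits AlgebraicGeometry Opposite TopologicalSpace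

namespace Groth.Agent.Lib.CohDelta.FPApprox.Colim

open Groth.Agent.Lib Groth.Agent.Lib.Modules.StalkModule Groth.Agent.Lib.CohDelta.IdealMul.Sec
  Groth.Agent.Lib.CohDelta.FPApprox.Sections Groth.Agent.Lib.CohDelta.FPApprox.Approx

attribute [local instance] HasFiniteBiproducts.of_hasFiniteProducts

variable {X : Scheme.{u}}

theorem finitePresentation_pi {R : Type u} [CommRing R] : ∀ (n : ℕ) (M : Fin n → Type u)
    [∀ k, AddCommGroup (M k)] [∀ k, Module R (M k)], (∀ k, Module.FinitePresentation R (M k)) →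
      Module.FinitePresentation R (∀ k, M k) := by
  intro n
  induction n with
  | zero =>
    intro M _ _ _
    exact Module.finitePresentation_of_free_of_surjective
      (0 : (Fin 0 → R) →ₗ[R] (∀ k, M k)) (fun v => ⟨0, Subsingleton.elim _ _⟩)
      (by rw [LinearMap.ker_zero]; exact Module.Finite.fg_top)
  | succ n ih =>
    intro M _ _ h
    haveI := h 0
    haveI := ih (fun k => M k.succ) fun k => h k.succ
    exact Module.FinitePresentation.of_equiv (Fin.consLinearEquiv R M)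

theorem fpAt_biproduct {n : ℕ} (A : Fin n → X.Modules) (W : X.Opens) (h : ∀ k, FPAt (A k) W) :
    FPAt (⨁ A) W := by
  classical
  haveI := finitePresentation_pi (R := Γ(X, W)) n (fun k => Γ(A k, W)) h
  let φ : ((k : Fin n) → Γ(A k, W)) →ₗ[Γ(X, W)] Γ(⨁ A, W) :=
    ∑ k, (appL (biproduct.ι A k) W).comp (LinearMap.proj k)
  let π : Γ(⨁ A, W) →ₗ[Γ(X, W)] ((k : Fin n) → Γ(A k, W)) :=
    LinearMap.pi fun k => appL (biproduct.π A k) W
  have h1 : ∀ v, φ (π v) = v := fun v => by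
    have e := IdealMul.DevExt.sum_sections Finset.univ
      (fun k => biproduct.π A k ≫ biproduct.ι A k) W v
    rw [biproduct.total] at e
    simp only [φ, LinearMap.sum_apply, LinearMap.comp_apply, LinearMap.proj_apply]
    exact e.symm
  have h2 : ∀ r, π (φ r) = r := fun r => funext fun j => by
    simp only [φ, π, LinearMap.sum_apply, LinearMap.comp_apply, LinearMap.proj_apply,
      LinearMap.pi_apply, map_sum]
    rw [Finset.sum_eq_single j]
    · exact congrArg (fun f : A j ⟶ A j => f.app W (r j)) (biproduct.ι_π_self A j)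
    · exact fun k _ hk => congrArg (fun f : A k ⟶ A j => f.app W (r k)) (biproduct.ι_π_ne A hk)
    · simp
  exact Module.FinitePresentation.of_equiv
    { φ with invFun := π, left_inv := h2, right_inv := h1 }

section

variable {κ : Type u} [Finite κ] (A : κ → X.Modules)

/-- A finite coproduct as a biproduct indexed by `Fin n`. -/
theorem exists_iso_biproduct :
    ∃ (n : ℕ) (e : κ ≃ Fin n), Nonempty ((∐ A) ≅ ⨁ fun k => A (e.symm k)) := by
  obtain ⟨n, ⟨e⟩⟩ := Finite.exists_equiv_fin κ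
  exact ⟨n, e, ⟨(Sigma.whiskerEquiv (f := fun k => A (e.symm k)) (g := A) e.symm
    (fun k => Iso.refl _)).symm ≪≫ (biproduct.isoCoproduct _).symm⟩⟩

theorem isCoh_coproduct (h : ∀ k, Coh.IsCoh (A k)) : Coh.IsCoh (∐ A) := by
  obtain ⟨n, e, ⟨i⟩⟩ := exists_iso_biproduct A
  exact CohBasics.Closure.isCoh_of_iso i.symm (IdealMul.DevExt.isCoh_biproduct _ fun k => h _)

theorem isQCoh_coproduct (h : ∀ k, (A k).IsQuasicoherent) : (∐ A).IsQuasicoherent :=
  QCoh.Closure.isQCoh_of_isColimit (coproductIsCoproduct A) fun j => h j.as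

theorem fpAt_coproduct (W : X.Opens) (h : ∀ k, FPAt (A k) W) : FPAt (∐ A) W := by
  obtain ⟨n, e, ⟨i⟩⟩ := exists_iso_biproduct A
  exact (fpAt_of_bijective i.hom (ConcreteCategory.bijective_of_isIso (i.hom.app W))).mpr
    (fpAt_biproduct _ W fun k => h _)

end

/-- Every element of a stalk of a coproduct comes from a finite subsum. -/
theorem exists_finite_subsum {E : Type u} (P : E → X.Modules) (x : X)
    (v : (∐ P).presheaf.stalk x) :
    ∃ (s : Finset E) (w : (∐ fun e : {e // e ∈ s} => P e.1).presheaf.stalk x),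
      stalkMapₗ (Sigma.desc fun e : {e // e ∈ s} => Sigma.ι P e.1) x w = v := by
  classical
  let S : Submodule (X.presheaf.stalk x) ((∐ P).presheaf.stalk x) :=
    ⨆ e, LinearMap.range (stalkMapₗ (Sigma.ι P e) x)
  have hS : ∀ v, v ∈ S := fun v => by
    rw [← Submodule.Quotient.mk_eq_zero]
    let q : AddCommGrpCat.of ((∐ P).presheaf.stalk x) ⟶
        AddCommGrpCat.of ((∐ P).presheaf.stalk x ⧸ S) :=
      AddCommGrpCat.ofHom S.mkQ.toAddMonoidHom
    suffices h : q = 0 from ConcreteCategory.congr_hom h v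
    haveI : PreservesColimitsOfShape (Discrete E) (Modules.Stalk.stalkFunctor X x) := inferInstance
    apply (isColimitOfPreserves (Modules.Stalk.stalkFunctor X x)
      (colimit.isColimit (Discrete.functor P))).hom_ext
    rintro ⟨e⟩
    ext w
    exact (Submodule.Quotient.mk_eq_zero S).mpr
      (Submodule.mem_iSup_of_mem e ⟨w, rfl⟩ : stalkMapₗ (Sigma.ι P e) x w ∈ S)
  obtain ⟨f, hf, hsum⟩ := (Submodule.mem_iSup_iff_exists_finsupp _ _).mp (hS v)
  choose w hw using hf
  refine ⟨f.support, ∑ e : {e // e ∈ f.support},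
    stalkMapₗ (Sigma.ι (fun e : {e // e ∈ f.support} => P e.1) e) x (w e.1), ?_⟩
  rw [map_sum, ← hsum, Finsupp.sum]
  refine Eq.trans (Finset.sum_congr rfl fun e _ => ?_) (Finset.sum_coe_sort f.support fun e => f e)
  rw [← LinearMap.comp_apply, ← stalkMapₗ_comp, Sigma.ι_desc]
  exact hw e.1

theorem exists_colimit [CompactSpace X] [QuasiSeparatedSpace X] (F : X.Modules) [F.IsQuasicoherent] :
    ∃ (I : Type u) (_ : SmallCategory I) (_ : IsFiltered I) (D : I ⥤ X.Modules) (c : Cocone D)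
      (_ : IsColimit c), (∀ i, CohB1.IsFP (D.obj i)) ∧ c.pt = F := by
  classical
  haveI : Coh.IsQCoh F := ‹F.IsQuasicoherent›
  let E := Σ U : X.affineOpens, Γ(F, U.1)
  have hgen : ∀ e : E, ∃ (P : X.Modules) (φ : P ⟶ F), P.IsQuasicoherent ∧ CohB1.IsFP P ∧
      ∃ g : Γ(P, e.1.1), appL φ e.1.1 g = e.2 := by
    intro e
    obtain ⟨S, i, -, hSq, hSf, g, hg⟩ := Groth.Agent.S9819.result F e.1 e.2
    haveI : S.IsQuasicoherent := hSq
    obtain ⟨P, π, hPq, hP, hπ⟩ := exists_epi_fp S hSf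
    haveI := hPq
    haveI := hπ
    obtain ⟨a, ha⟩ := appL_surjective π e.1.2 g
    refine ⟨P, π ≫ i, hPq, hP, a, ?_⟩
    rw [appL_comp, LinearMap.comp_apply, ha]
    exact hg
  choose P φ hPq hP g hg using hgen
  let A : Finset E → X.Modules := fun s => ∐ fun e : {e // e ∈ s} => P e.1
  have hAq : ∀ s, (A s).IsQuasicoherent := fun s => isQCoh_coproduct _ fun e => hPq _
  let Φ : ∀ s, A s ⟶ F := fun s => Sigma.desc fun e => φ e.1
  let inc : ∀ {s t : Finset E}, s ≤ t → (A s ⟶ A t) := fun {s t} h =>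
    Sigma.desc fun e => Sigma.ι (fun e : {e // e ∈ t} => P e.1) ⟨e.1, h e.2⟩
  have inc_ι : ∀ {s t : Finset E} (h : s ≤ t) (e : {e // e ∈ s}),
      Sigma.ι (fun e : {e // e ∈ s} => P e.1) e ≫ inc h =
        Sigma.ι (fun e : {e // e ∈ t} => P e.1) ⟨e.1, h e.2⟩ := fun h e => Sigma.ι_desc _ _
  have inc_self : ∀ {s : Finset E} (h : s ≤ s), inc h = 𝟙 (A s) := fun h =>
    Sigma.hom_ext _ _ fun e => by rw [inc_ι]; exact (Category.comp_id _).symm
  have inc_inc : ∀ {s t r : Finset E} (h : s ≤ t) (h' : t ≤ r), inc h ≫ inc h' = inc (h.trans h') :=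
    fun h h' => Sigma.hom_ext _ _ fun e => by rw [← Category.assoc, inc_ι, inc_ι, inc_ι]
  have incΦ : ∀ {s t : Finset E} (h : s ≤ t), inc h ≫ Φ t = Φ s := fun h =>
    Sigma.hom_ext _ _ fun e => by rw [← Category.assoc, inc_ι, Sigma.ι_desc, Sigma.ι_desc]
  -- relations
  let R := Σ s : Finset E, Σ U : X.affineOpens, Γ(kernel (Φ s), U.1)
  have hrel : ∀ ρ : R, ∃ (G : X.Modules) (i : G ⟶ A ρ.1), Coh.IsCoh G ∧ i ≫ Φ ρ.1 = 0 ∧
      ∃ a : Γ(G, ρ.2.1.1), appL i ρ.2.1.1 a = appL (kernel.ι (Φ ρ.1)) ρ.2.1.1 ρ.2.2 := by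
    intro ρ
    haveI := hAq ρ.1
    haveI : Coh.IsQCoh (kernel (Φ ρ.1)) := QCoh.Closure.isQCoh_kernel (Φ ρ.1)
    obtain ⟨G, i, -, hGq, hGf, a, ha⟩ := Groth.Agent.S9819.result (kernel (Φ ρ.1)) ρ.2.1 ρ.2.2
    refine ⟨G, i ≫ kernel.ι (Φ ρ.1), ⟨hGq, hGf⟩, by rw [Category.assoc, kernel.condition, comp_zero],
      a, ?_⟩
    exact (LinearMap.congr_fun (appL_comp i (kernel.ι (Φ ρ.1)) ρ.2.1.1) a).trans (congrArg _ ha)
  choose G i hG hiΦ a ha using hrel
  let supp : Finset R → Finset E := fun r => r.sup fun ρ => ρ.1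
  have le_supp : ∀ {r : Finset R} {ρ : R}, ρ ∈ r → ρ.1 ≤ supp r := fun h =>
    Finset.le_sup (f := fun ρ : R => ρ.1) h
  have supp_mono : ∀ {r r' : Finset R}, r ≤ r' → supp r ≤ supp r' := fun h => Finset.sup_mono h
  let d : ∀ r : Finset R, (∐ fun ρ : {ρ // ρ ∈ r} => G ρ.1) ⟶ A (supp r) := fun r =>
    Sigma.desc fun ρ => i ρ.1 ≫ inc (le_supp ρ.2)
  have hd : ∀ (r : Finset R) (ρ : R) (h : ρ ∈ r),
      i ρ ≫ inc (le_supp h) ≫ cokernel.π (d r) = 0 := fun r ρ h => by
    have h1 : Sigma.ι (fun ρ : {ρ // ρ ∈ r} => G ρ.1) ⟨ρ, h⟩ ≫ d r = i ρ ≫ inc (le_supp h) :=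
      Sigma.ι_desc _ _
    rw [← Category.assoc, ← h1, Category.assoc, cokernel.condition, comp_zero]
  have hmap : ∀ {r r' : Finset R} (h : r ≤ r'),
      d r ≫ inc (supp_mono h) ≫ cokernel.π (d r') = 0 := fun {r r'} h =>
    Sigma.hom_ext _ _ fun ρ => by
      rw [← Category.assoc, Sigma.ι_desc, comp_zero, Category.assoc, ← Category.assoc (inc _),
        inc_inc]
      exact hd r' ρ.1 (h ρ.2)
  let D : Finset R ⥤ X.Modules :=
    { obj := fun r => cokernel (d r)
      map := fun {r r'} f => cokernel.desc (d r) (inc (supp_mono (leOfHom f)) ≫ cokernel.π (d r'))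
        (hmap (leOfHom f))
      map_id := fun r => (cancel_epi (cokernel.π (d r))).mp (by
        rw [cokernel.π_desc, inc_self, Category.id_comp, Category.comp_id])
      map_comp := fun {r _ _} _ _ => (cancel_epi (cokernel.π (d r))).mp (by
        rw [cokernel.π_desc, cokernel.π_desc_assoc, Category.assoc, cokernel.π_desc,
          ← Category.assoc (inc _), inc_inc]) }
  have hdΦ : ∀ r, d r ≫ Φ (supp r) = 0 := fun r => Sigma.hom_ext _ _ fun ρ => by
    rw [← Category.assoc, Sigma.ι_desc, comp_zero, Category.assoc, incΦ, hiΦ]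
  let ι : D ⟶ (Functor.const (Finset R)).obj F :=
    { app := fun r => cokernel.desc (d r) (Φ (supp r)) (hdΦ r)
      naturality := fun r r' f => by
        refine (cancel_epi (cokernel.π (d r))).mp ?_
        show cokernel.π (d r) ≫ cokernel.desc (d r) (inc (supp_mono (leOfHom f)) ≫ cokernel.π (d r')) _ ≫
          cokernel.desc (d r') (Φ (supp r')) (hdΦ r') =
          cokernel.π (d r) ≫ cokernel.desc (d r) (Φ (supp r)) (hdΦ r) ≫ 𝟙 F
        rw [cokernel.π_desc_assoc, Category.assoc, cokernel.π_desc, incΦ, Category.comp_id,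
          cokernel.π_desc] }
  -- the zero relation of `s`
  let rel : Finset E → R := fun s =>
    ⟨s, ⟨⊥, isAffineOpen_bot X⟩, 0⟩
  let Ψ : (c : Cocone D) → (∐ P) ⟶ c.pt := fun c => Sigma.desc fun e =>
    Sigma.ι (fun e' : {e' // e' ∈ ({e} : Finset E)} => P e'.1) ⟨e, Finset.mem_singleton_self e⟩ ≫
      inc (le_supp (Finset.mem_singleton_self (rel {e}))) ≫
        cokernel.π (d {rel {e}}) ≫ c.ι.app {rel {e}}
  have hcw : ∀ (c : Cocone D) {r r' : Finset R} (h : r ≤ r'),
      cokernel.π (d r) ≫ c.ι.app r =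
        inc (supp_mono h) ≫ cokernel.π (d r') ≫ c.ι.app r' := fun c {r r'} h => by
    rw [← c.w (homOfLE h)]
    exact (cokernel.π_desc_assoc _ _ _ _).trans (Category.assoc _ _ _)
  have hΨ : ∀ (c : Cocone D) (r : Finset R),
      Sigma.desc (fun e : {e // e ∈ supp r} => Sigma.ι P e.1) ≫ Ψ c =
        cokernel.π (d r) ≫ c.ι.app r := fun c r => Sigma.hom_ext _ _ fun e => by
    let r' := insert (rel {e.1}) r
    have h₁ : ({rel {e.1}} : Finset R) ≤ r' := by simp [r']
    have h₂ : r ≤ r' := Finset.subset_insert _ _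
    rw [← Category.assoc, Sigma.ι_desc, Sigma.ι_desc, hcw c h₁, hcw c h₂,
      ← Category.assoc (inc _) (inc _), inc_inc, ← Category.assoc, ← Category.assoc (Sigma.ι _ e),
      inc_ι, inc_ι]
  let Φ₀ : (∐ P) ⟶ F := Sigma.desc φ
  have hΦ₀ : ∀ s : Finset E, Sigma.desc (fun e : {e // e ∈ s} => Sigma.ι P e.1) ≫ Φ₀ = Φ s :=
    fun s => Sigma.hom_ext _ _ fun e => by
      rw [← Category.assoc, Sigma.ι_desc, Sigma.ι_desc, Sigma.ι_desc]
  haveI : Epi Φ₀ := by
    refine (epi_iff_stalkMapₗ_surjective Φ₀).mpr fun x v => ?_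
    obtain ⟨O, hxO, s, rfl⟩ := TopCat.Presheaf.exists_germ_eq F.presheaf v
    obtain ⟨W, hW, hx, hWO⟩ := exists_isAffineOpen_mem_and_subset hxO
    let e : E := ⟨⟨W, hW⟩, F.presheaf.map (homOfLE hWO).op s⟩
    refine ⟨stalkMapₗ (Sigma.ι P e) x ((P e).presheaf.germ W x hx (g e)), ?_⟩
    rw [← LinearMap.comp_apply, ← stalkMapₗ_comp, Sigma.ι_desc, stalkMapₗ_germ]
    exact (congrArg (F.presheaf.germ W x hx) (hg e)).trans (TopCat.Presheaf.germ_res_apply _ _ _ _ _)
  have hker : ∀ c : Cocone D, kernel.ι Φ₀ ≫ Ψ c = 0 := fun c => by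
    refine Modules.Stalk.hom_ext_stalk fun x => ?_
    suffices key : ∀ v : (kernel Φ₀).presheaf.stalk x,
        stalkMapₗ (kernel.ι Φ₀ ≫ Ψ c) x v = stalkMapₗ (0 : kernel Φ₀ ⟶ c.pt) x v by
      ext v
      exact key v
    intro v
    rw [stalkMapₗ_zero, LinearMap.zero_apply, stalkMapₗ_comp, LinearMap.comp_apply]
    obtain ⟨s, w, hw⟩ := exists_finite_subsum P x (stalkMapₗ (kernel.ι Φ₀) x v)
    have hΦw : stalkMapₗ (Φ s) x w = 0 := by
      rw [← hΦ₀ s, stalkMapₗ_comp, LinearMap.comp_apply, hw, ← LinearMap.comp_apply, ← stalkMapₗ_comp,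
        kernel.condition, stalkMapₗ_zero, LinearMap.zero_apply]
    obtain ⟨k, hk⟩ := H52.DevSummand.eq_stalk_kernel (Φ s) w hΦw
    obtain ⟨O, hxO, t, rfl⟩ := TopCat.Presheaf.exists_germ_eq (kernel (Φ s)).presheaf k
    obtain ⟨W, hW, hx, hWO⟩ := exists_isAffineOpen_mem_and_subset hxO
    let ρ : R := ⟨s, ⟨W, hW⟩, (kernel (Φ s)).presheaf.map (homOfLE hWO).op t⟩
    have hs : supp {ρ} = s := Finset.sup_singleton
    have hker0 : i ρ ≫ Sigma.desc (fun e : {e // e ∈ s} => Sigma.ι P e.1) ≫ Ψ c = 0 := by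
      have e1 : Sigma.desc (fun e : {e // e ∈ s} => Sigma.ι P e.1) =
          inc (le_supp (Finset.mem_singleton_self ρ)) ≫
            Sigma.desc (fun e : {e // e ∈ supp {ρ}} => Sigma.ι P e.1) :=
        Sigma.hom_ext _ _ fun e => by rw [← Category.assoc, inc_ι, Sigma.ι_desc, Sigma.ι_desc]
      rw [e1, Category.assoc, hΨ c {ρ}, ← Category.assoc (inc _), ← Category.assoc,
        hd {ρ} ρ (Finset.mem_singleton_self ρ), zero_comp]
    have hw' : w = stalkMapₗ (i ρ) x ((G ρ).presheaf.germ W x hx (a ρ)) := by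
      rw [← hk, stalkMapₗ_germ, stalkMapₗ_germ]
      refine Eq.trans ?_ (congrArg ((A s).presheaf.germ W x hx) (ha ρ)).symm
      rw [← stalkMapₗ_germ (kernel.ι (Φ s)) hxO t]
      refine Eq.trans ?_ (stalkMapₗ_germ (kernel.ι (Φ s)) hx _)
      exact congrArg _ (TopCat.Presheaf.germ_res_apply _ (homOfLE hWO) x hx t).symm
    rw [← hw, ← LinearMap.comp_apply, ← stalkMapₗ_comp, hw', ← LinearMap.comp_apply, ← stalkMapₗ_comp,
      hker0, stalkMapₗ_zero, LinearMap.zero_apply]
  refine ⟨Finset R, inferInstance, inferInstance, D, Cocone.mk F ι, ?_, fun r => ?_, rfl⟩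
  · exact
      { desc := fun c => Abelian.epiDesc Φ₀ (Ψ c) (hker c)
        fac := fun c r => by
          refine (cancel_epi (cokernel.π (d r))).mp ?_
          show cokernel.π (d r) ≫ cokernel.desc (d r) (Φ (supp r)) (hdΦ r) ≫ _ = _
          rw [cokernel.π_desc_assoc, ← hΦ₀, Category.assoc, Abelian.comp_epiDesc, hΨ c r]
        uniq := fun c m hm => by
          rw [← cancel_epi Φ₀, Abelian.comp_epiDesc]
          refine Sigma.hom_ext _ _ fun e => ?_
          rw [Sigma.ι_desc, ← Category.assoc, Sigma.ι_desc, ← hm {rel {e}}]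
          show _ = _ ≫ inc _ ≫ cokernel.π _ ≫ cokernel.desc _ (Φ _) _ ≫ m
          rw [cokernel.π_desc_assoc, ← Category.assoc (inc _), incΦ, ← Category.assoc, Sigma.ι_desc] }
  · show CohB1.IsFP (cokernel (d r))
    haveI := hAq (supp r)
    have hGr : Coh.IsCoh (∐ fun ρ : {ρ // ρ ∈ r} => G ρ.1) := isCoh_coproduct _ fun ρ => hG _
    haveI := hGr.1
    haveI := QCoh.Closure.isQCoh_cokernel (d r)
    refine isFP_of_fpAt fun x => ?_
    obtain ⟨W, hW, hx, -⟩ := exists_isAffineOpen_mem_and_subset (U := (⊤ : X.Opens)) (x := x) trivial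
    refine ⟨W, hW, hx, fpAt_cokernel (d r) hW (CohBasics.Closure.finite_sections hGr hW) ?_⟩
    exact fpAt_coproduct _ W fun e => haveI := hPq e.1; fpAt_of_isFP (hP e.1) hW

end Groth.Agent.Lib.CohDelta.FPApprox.Colim
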