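import Groth.Agent.Lib.DescAlg.FPPush
import Groth.Agent.Lib.CohBasics.Closure
import Groth.Agent.Lib.CohDelta.IdealMul.DevTools
import Groth.Agent.S9827
import Groth.Agent.S9819

/-!
# Finitely presented modules of sections on affine opens

`FPAt M W`: the sections of `M` on the affine open `W` form a finitely presented module.
-/

set_option autoImplicit false
set_option linter.style.haveILetI false
universe u

open CategoryTheory CategoryTheory.Limits AlgebraicGeometry Opposite TopologicalSpace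

namespace Groth.Agent.Lib.CohDelta.FPApprox.Sections

open Groth.Agent.Lib Groth.Agent.Lib.Modules.StalkModule Groth.Agent.Lib.CohDelta.IdealMul.Sec

variable {X : Scheme.{u}}

/-- The sections on `W` are finitely presented. -/
def FPAt (M : X.Modules) (W : X.Opens) : Prop := Module.FinitePresentation Γ(X, W) Γ(M, W)

/-- Restriction along an open immersion does not change finite presentation of sections. -/
theorem fp_restrict_iff {U : Scheme.{u}} (j : U ⟶ X) [IsOpenImmersion j] (M : X.Modules)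
    (W : U.Opens) {V : X.Opens} (e : j ''ᵁ W = V) : FPAt (M.restrict j) W ↔ FPAt M V := by
  subst e
  letI : Algebra Γ(U, W) Γ(X, j ''ᵁ W) := (j.appIso W).inv.hom.toAlgebra
  letI : Module Γ(U, W) Γ(M, j ''ᵁ W) :=
    (inferInstance : Module Γ(U, W) Γ(M.restrict j, W))
  haveI : IsScalarTower Γ(U, W) Γ(X, j ''ᵁ W) Γ(M, j ''ᵁ W) :=
    IsScalarTower.of_algebraMap_smul fun r x => rfl
  exact Groth.Agent.S9827.fp_iff (R := Γ(U, W)) (S := Γ(X, j ''ᵁ W)) (N := Γ(M, j ''ᵁ W))
    (ConcreteCategory.bijective_of_isIso (j.appIso W).inv)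

/-- A finitely presented module has finitely presented sections. -/
theorem fpAt_of_isFP {M : X.Modules} [M.IsQuasicoherent] (hM : CohB1.IsFP M) {W : X.Opens}
    (hW : IsAffineOpen W) : FPAt M W :=
  DescAlg.FPPush.finitePresentation_sections hW M hM

/-- Finite presentation of sections passes to smaller affine opens. -/
theorem fpAt_of_le {M : X.Modules} [M.IsQuasicoherent] {W W' : X.Opens} (hW : IsAffineOpen W)
    (hW' : IsAffineOpen W') (hle : W' ≤ W) (h : FPAt M W) : FPAt M W' := by
  have hfp : CohB1.IsFP (M.restrict W.ι) := by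
    refine DescAlg.FPPush.isFP_of_sections _ fun x => ?_
    haveI : IsAffine (W : Scheme.{u}) := hW
    exact ⟨⊤, isAffineOpen_top _, trivial,
      (fp_restrict_iff W.ι M ⊤ W.ι_image_top).mpr h⟩
  have e : W.ι ''ᵁ W.ι ⁻¹ᵁ W' = W' := by
    rw [Scheme.Hom.image_preimage_eq_opensRange_inf, Scheme.Opens.opensRange_ι]
    exact inf_eq_right.mpr hle
  have ha : IsAffineOpen (W.ι ⁻¹ᵁ W') := by
    rw [← W.ι.isAffineOpen_iff_of_isOpenImmersion, e]
    exact hW'
  exact (fp_restrict_iff W.ι M _ e).mp (fpAt_of_isFP hfp ha)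

/-- Finite presentation of sections along bijective morphisms. -/
theorem fpAt_of_bijective {M N : X.Modules} (φ : M ⟶ N) {W : X.Opens}
    (h : Function.Bijective (appL φ W)) : FPAt M W ↔ FPAt N W :=
  (LinearEquiv.ofBijective (appL φ W) h).finitePresentation_iff

/-- The criterion on an affine cover. -/
theorem isFP_of_fpAt {M : X.Modules} [M.IsQuasicoherent]
    (h : ∀ x : X, ∃ W : X.Opens, IsAffineOpen W ∧ x ∈ W ∧ FPAt M W) : CohB1.IsFP M :=
  DescAlg.FPPush.isFP_of_sections M h

theorem finite_of_fpAt {M : X.Modules} {W : X.Opens} (h : FPAt M W) :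
    Module.Finite Γ(X, W) Γ(M, W) :=
  haveI : Module.FinitePresentation Γ(X, W) Γ(M, W) := h
  inferInstance

/-- An epimorphism of quasi-coherent modules on affine opens. -/
theorem appL_surjective {M N : X.Modules} [M.IsQuasicoherent] [N.IsQuasicoherent] (p : M ⟶ N)
    [Epi p] {W : X.Opens} (hW : IsAffineOpen W) : Function.Surjective (appL p W) := fun y => by
  obtain ⟨a, ha⟩ := QCoh.Closure.sections_surjective_of_epi p hW y
  exact ⟨a, ha⟩

/-- The cokernel of a map from a module with finite sections to one with finitely presented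
sections. -/
theorem fpAt_cokernel {K G : X.Modules} [K.IsQuasicoherent] [G.IsQuasicoherent] (f : K ⟶ G)
    {W : X.Opens} (hW : IsAffineOpen W) (hK : Module.Finite Γ(X, W) Γ(K, W)) (hG : FPAt G W) :
    FPAt (cokernel f) W := by
  haveI : Module.FinitePresentation Γ(X, W) Γ(G, W) := hG
  haveI := QCoh.Closure.isQCoh_cokernel f
  refine Module.finitePresentation_of_surjective (appL (cokernel.π f) W)
    (appL_surjective (cokernel.π f) hW) ?_
  rw [IdealMul.Main.ker_cokernel_π f ⟨W, hW⟩, LinearMap.range_eq_map]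
  exact hK.fg_top.map _

/-- The sum of two modules. -/
theorem fpAt_biprod {M N : X.Modules} {W : X.Opens} (hM : FPAt M W) (hN : FPAt N W) :
    FPAt (M ⊞ N) W := by
  haveI : Module.FinitePresentation Γ(X, W) Γ(M, W) := hM
  haveI : Module.FinitePresentation Γ(X, W) Γ(N, W) := hN
  let toF : Γ(M ⊞ N, W) →ₗ[Γ(X, W)] Γ(M, W) × Γ(N, W) :=
    (appL (biprod.fst : M ⊞ N ⟶ M) W).prod (appL (biprod.snd : M ⊞ N ⟶ N) W)
  let fro : Γ(M, W) × Γ(N, W) →ₗ[Γ(X, W)] Γ(M ⊞ N, W) :=
    (appL (biprod.inl : M ⟶ M ⊞ N) W).coprod (appL (biprod.inr : N ⟶ M ⊞ N) W)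
  have h1 : ∀ x, fro (toF x) = x := fun x => by
    have := congrArg (fun φ : M ⊞ N ⟶ M ⊞ N => φ.app W x) (biprod.total (X := M) (Y := N))
    exact this
  have h2 : toF ∘ₗ fro = LinearMap.id := by
    refine LinearMap.prod_ext ?_ ?_ <;>
      simp only [fro, LinearMap.comp_assoc, LinearMap.coprod_inl, LinearMap.coprod_inr,
        LinearMap.id_comp] <;> ext x
    · exact congrArg (fun φ : M ⟶ M => φ.app W x) (biprod.inl_fst (X := M) (Y := N))
    · exact (congrArg (fun φ : M ⟶ N => φ.app W x) (biprod.inl_snd (X := M) (Y := N)))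
    · exact (congrArg (fun φ : N ⟶ M => φ.app W x) (biprod.inr_fst (X := M) (Y := N)))
    · exact congrArg (fun φ : N ⟶ N => φ.app W x) (biprod.inr_snd (X := M) (Y := N))
  exact Module.FinitePresentation.of_equiv
    { fro with
      invFun := toF
      left_inv := fun x => LinearMap.congr_fun h2 x
      right_inv := h1 }

/-- A quasi-coherent submodule of finite type containing given sections on finitely many affine
opens. -/
theorem exists_ft_sub [CompactSpace X] [QuasiSeparatedSpace X] (F : X.Modules) [F.IsQuasicoherent]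
    {κ : Type*} [Finite κ] (W : κ → X.affineOpens) (t : ∀ k, Γ(F, (W k).1)) :
    ∃ (S : X.Modules) (i : S ⟶ F), Mono i ∧ S.IsQuasicoherent ∧ CohB1.IsFT S ∧
      ∀ k, t k ∈ LinearMap.range (appL i (W k).1) := by
  classical
  haveI : Coh.IsQCoh F := ‹F.IsQuasicoherent›
  choose G i hi hGq hGf g hg using fun k => Groth.Agent.S9819.result F (W k) (t k)
  haveI := Fintype.ofFinite κ
  suffices ∀ s : Finset κ, ∃ (S : X.Modules) (d : S ⟶ F), S.IsQuasicoherent ∧ CohB1.IsFT S ∧
      ∀ k ∈ s, t k ∈ LinearMap.range (appL d (W k).1) by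
    obtain ⟨S, d, hq, hf, hd⟩ := this Finset.univ
    haveI := hq
    haveI := QCoh.Closure.isQCoh_cokernel d
    haveI : (Abelian.image d).IsQuasicoherent := QCoh.Closure.isQCoh_kernel (cokernel.π d)
    refine ⟨Abelian.image d, Abelian.image.ι d, inferInstanceAs (Mono (kernel.ι (cokernel.π d))),
      inferInstance, (CohBasics.Closure.isCoh_of_epi (Abelian.factorThruImage d) ⟨hq, hf⟩).2,
      fun k => ?_⟩
    obtain ⟨a, ha⟩ := hd k (Finset.mem_univ k)
    refine ⟨appL (Abelian.factorThruImage d) (W k).1 a, ?_⟩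
    rw [← LinearMap.comp_apply, ← appL_comp, Abelian.image.fac]
    exact ha
  intro s
  induction s using Finset.induction_on with
  | empty =>
    have hz := isZero_kernel_of_mono (𝟙 F)
    haveI := QCoh.Closure.isQCoh_kernel (𝟙 F)
    refine ⟨kernel (𝟙 F), kernel.ι (𝟙 F), QCoh.Closure.isQCoh_kernel (𝟙 F),
      CohBasics.Affine.isFiniteType_of_finite_sections (M := kernel (𝟙 F)) ?_, by simp⟩
    intro x
    obtain ⟨V, hV, hx, -⟩ := exists_isAffineOpen_mem_and_subset (U := (⊤ : X.Opens)) (x := x) trivial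
    haveI := Modules.AffineSections.subsingleton_sections hz V
    exact ⟨V, hV, hx, inferInstance⟩
  | insert a s _ ih =>
    obtain ⟨S, d, hq, hf, hd⟩ := ih
    haveI := hq
    haveI := hGq a
    have hb := CohBasics.Closure.isCoh_biprod (M := S) (N := G a) ⟨hq, hf⟩ ⟨hGq a, hGf a⟩
    refine ⟨S ⊞ G a, biprod.desc d (i a), hb.1, hb.2, fun k hk => ?_⟩
    rcases Finset.mem_insert.mp hk with rfl | hk
    · refine ⟨appL biprod.inr (W k).1 (g k), ?_⟩
      exact (congrArg (fun φ : G k ⟶ F => φ.app (W k).1 (g k)) (biprod.inr_desc d (i k))).trans (hg k)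
    · obtain ⟨b, hb'⟩ := hd k hk
      refine ⟨appL biprod.inl (W k).1 b, ?_⟩
      rw [← LinearMap.comp_apply, ← appL_comp, biprod.inl_desc]
      exact hb'

/-- A submodule of finite type with all sections on finitely many affine opens with finite
sections. -/
theorem exists_ft_sub_all [CompactSpace X] [QuasiSeparatedSpace X] (F : X.Modules)
    [F.IsQuasicoherent] (s : Finset X.affineOpens)
    (hs : ∀ W ∈ s, Module.Finite Γ(X, W.1) Γ(F, W.1)) :
    ∃ (S : X.Modules) (i : S ⟶ F), Mono i ∧ S.IsQuasicoherent ∧ CohB1.IsFT S ∧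
      ∀ W ∈ s, Function.Bijective (appL i W.1) := by
  classical
  choose n t ht using fun W : {W // W ∈ s} =>
    @Module.Finite.exists_fin Γ(X, W.1.1) Γ(F, W.1.1) _ _ _ (hs W.1 W.2)
  obtain ⟨S, i, hi, hq, hf, h⟩ := exists_ft_sub F
    (fun k : Σ W : {W // W ∈ s}, Fin (n W) => k.1.1) (fun k => t k.1 k.2)
  refine ⟨S, i, hi, hq, hf, fun W hW => ⟨appL_injective i W.1, ?_⟩⟩
  refine LinearMap.range_eq_top.mp (eq_top_iff.mpr ?_)
  rw [← ht ⟨W, hW⟩, Submodule.span_le]
  rintro _ ⟨a, rfl⟩
  exact h ⟨⟨W, hW⟩, a⟩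

end Groth.Agent.Lib.CohDelta.FPApprox.Sections
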