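import Groth.Agent.Lib.CohDelta.FPApprox.Sections

/-!
# Finitely presented modules mapping onto modules of finite type

`exists_quot`: refine an epimorphism from a finitely presented module; `exists_fp_map`: make a module
finitely presented on more affine opens; `exists_epi_fp`: on a quasi-compact quasi-separated scheme
every quasi-coherent module of finite type is a quotient of a finitely presented one.
-/

set_option autoImplicit false
set_option linter.style.haveILetI false
universe u

open CategoryTheory CategoryTheory.Limits AlgebraicGeometry Opposite TopologicalSpace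

namespace Groth.Agent.Lib.CohDelta.FPApprox.Approx

open Groth.Agent.Lib Groth.Agent.Lib.Modules.StalkModule Groth.Agent.Lib.CohDelta.IdealMul.Sec
  Groth.Agent.Lib.CohDelta.FPApprox.Sections

variable {X : Scheme.{u}}

/-- Bijectivity on an affine open gives bijectivity on the stalks at its points. -/
theorem stalk_bijective {A B : X.Modules} [A.IsQuasicoherent] [B.IsQuasicoherent] (φ : A ⟶ B)
    {W : X.Opens} (hW : IsAffineOpen W) (h : Function.Bijective (appL φ W)) {x : X} (hx : x ∈ W) :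
    Function.Bijective (stalkMapₗ φ x) := by
  haveI := QCoh.Closure.isQCoh_kernel φ
  refine ⟨(injective_iff_map_eq_zero _).mpr fun v hv => ?_, fun v => ?_⟩
  · obtain ⟨k, rfl⟩ := H52.DevSummand.eq_stalk_kernel φ v hv
    have hz : ∀ s : Γ(kernel φ, W), s = 0 := fun s => by
      refine appL_injective (kernel.ι φ) W ((h.1 ?_).trans (map_zero _).symm)
      rw [map_zero]
      exact LinearMap.mem_ker.mp ((ker_appL φ W).ge ⟨s, rfl⟩)
    have hspan := CohBasics.Affine.germ_span_eq_top (M := kernel φ) hW Set.univ Submodule.span_univ hx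
    have : k ∈ (⊥ : Submodule (X.presheaf.stalk x) ((kernel φ).presheaf.stalk x)) := by
      have hk : k ∈ Submodule.span (X.presheaf.stalk x)
          ((fun s => (kernel φ).presheaf.germ W x hx s) '' Set.univ) := hspan ▸ Submodule.mem_top
      refine Submodule.span_le.mpr ?_ hk
      rintro _ ⟨s, -, rfl⟩
      simp [hz s]
    rw [(Submodule.mem_bot _).mp this, map_zero]
  · have hspan := CohBasics.Affine.germ_span_eq_top (M := B) hW Set.univ Submodule.span_univ hx
    have hv : v ∈ Submodule.span (X.presheaf.stalk x)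
        ((fun s => B.presheaf.germ W x hx s) '' Set.univ) := hspan ▸ Submodule.mem_top
    refine LinearMap.mem_range.mp (Submodule.span_le.mpr ?_ hv)
    rintro _ ⟨s, -, rfl⟩
    obtain ⟨a, rfl⟩ := h.2 s
    exact ⟨A.presheaf.germ W x hx a, stalkMapₗ_germ φ hx a⟩

/-- An isomorphism on all stalks over an open is bijective on its sections. -/
theorem app_isIso {A B : X.Modules} (φ : A ⟶ B) (E : X.Opens)
    (h : ∀ x ∈ E, Function.Bijective (stalkMapₗ φ x)) : IsIso (φ.app E) := by
  haveI := IdealMul.DevExt.isIso_restrict (U := E) φ h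
  have key : ∀ {A' : X.Opens}, A' = E → IsIso (φ.app A') → IsIso (φ.app E) := fun e h' => e ▸ h'
  exact key E.ι_image_top
    (inferInstanceAs (IsIso (((Scheme.Modules.restrictFunctor E.ι).map φ).app ⊤)))

/-- Refining an epimorphism from a finitely presented module. -/
theorem exists_quot [CompactSpace X] [QuasiSeparatedSpace X] {G₀ F : X.Modules}
    [G₀.IsQuasicoherent] [F.IsQuasicoherent] (hG : CohB1.IsFP G₀) (p : G₀ ⟶ F) [Epi p]
    (s : Finset X.affineOpens) (hs : ∀ W ∈ s, FPAt F W.1) :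
    ∃ (G : X.Modules) (ψ : G ⟶ F), G.IsQuasicoherent ∧ CohB1.IsFP G ∧ Epi ψ ∧
      ∀ W ∈ s, Function.Bijective (appL ψ W.1) := by
  haveI := QCoh.Closure.isQCoh_kernel p
  have hfin : ∀ W ∈ s, Module.Finite Γ(X, W.1) Γ(kernel p, W.1) := by
    intro W hW
    haveI : Module.FinitePresentation Γ(X, W.1) Γ(F, W.1) := hs W hW
    haveI := finite_of_fpAt (fpAt_of_isFP hG W.2)
    have hfg := Module.FinitePresentation.fg_ker (appL p W.1) (appL_surjective p W.2)
    rw [ker_appL] at hfg
    haveI : Module.Finite Γ(X, W.1) (LinearMap.range (appL (kernel.ι p) W.1)) :=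
      Module.Finite.iff_fg.mpr hfg
    exact Module.Finite.equiv
      (LinearEquiv.ofInjective (appL (kernel.ι p) W.1) (appL_injective _ _)).symm
  obtain ⟨K, i, -, hKq, hKf, hK⟩ := exists_ft_sub_all (kernel p) s hfin
  haveI := hKq
  haveI : SheafOfModules.IsFiniteType (R := X.ringCatSheaf) K := hKf
  let f : K ⟶ G₀ := i ≫ kernel.ι p
  have hf : f ≫ p = 0 := by rw [Category.assoc, kernel.condition, comp_zero]
  haveI := QCoh.Closure.isQCoh_cokernel f
  let ψ : cokernel f ⟶ F := cokernel.desc f p hf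
  haveI : Epi (cokernel.π f ≫ ψ) := by rw [cokernel.π_desc]; infer_instance
  have hfac : ∀ (W : X.Opens) v, appL ψ W (appL (cokernel.π f) W v) = appL p W v := fun W v => by
    rw [← LinearMap.comp_apply, ← appL_comp, cokernel.π_desc]
  refine ⟨cokernel f, ψ, inferInstance, isFP_of_fpAt fun x => ?_, epi_of_epi (cokernel.π f) ψ,
    fun W hW => ⟨(injective_iff_map_eq_zero _).mpr fun v hv => ?_, fun v => ?_⟩⟩
  · obtain ⟨V, hV, hx, -⟩ := exists_isAffineOpen_mem_and_subset (U := (⊤ : X.Opens)) (x := x) trivial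
    exact ⟨V, hV, hx, fpAt_cokernel f hV (CohBasics.Affine.finite_sections hV) (fpAt_of_isFP hG hV)⟩
  · obtain ⟨w, rfl⟩ := appL_surjective (cokernel.π f) W.2 v
    rw [hfac, ← LinearMap.mem_ker, ker_appL] at hv
    obtain ⟨k, rfl⟩ := hv
    obtain ⟨k', rfl⟩ := (hK W hW).2 k
    have h0 : appL (f ≫ cokernel.π f) W.1 k' = 0 :=
      congrArg (fun φ : K ⟶ cokernel f => φ.app W.1 k') (cokernel.condition f)
    rw [← LinearMap.comp_apply, ← LinearMap.comp_apply, ← appL_comp, ← appL_comp]
    rwa [Category.assoc] at h0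
  · obtain ⟨w, rfl⟩ := appL_surjective p W.2 v
    exact ⟨_, hfac W.1 w⟩

/-- A module on an open subscheme mapping to the restriction extends. -/
theorem exists_lift_module {U : Scheme.{u}} (j : U ⟶ X) [IsOpenImmersion j] [QuasiCompact j]
    (H : X.Modules) [H.IsQuasicoherent] (G : U.Modules) [G.IsQuasicoherent]
    (ψ : G ⟶ H.restrict j) :
    ∃ (H₁ : X.Modules) (π : H₁ ⟶ H) (e : H₁.restrict j ≅ G), H₁.IsQuasicoherent ∧
      e.hom ≫ ψ = (Scheme.Modules.restrictFunctor j).map π ∧
      ∀ D : X.Opens, (∀ z : U, j z ∈ D → Function.Bijective (stalkMapₗ ψ z)) →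
        IsIso ((Scheme.Modules.restrictFunctor D.ι).map π) := by
  let P := Scheme.Modules.pushforward j
  let R := Scheme.Modules.restrictFunctor j
  let adj := Scheme.Modules.restrictAdjunction j
  haveI : (H.restrict j).IsQuasicoherent := inferInstance
  haveI : (P.obj G).IsQuasicoherent := QCoh.Pushforward.isQCoh_pushforward j (M := G)
  haveI : (P.obj (R.obj H)).IsQuasicoherent := QCoh.Pushforward.isQCoh_pushforward j (M := R.obj H)
  let η : H ⟶ P.obj (R.obj H) := adj.unit.app H
  haveI : IsIso (adj.counit.app (R.obj H)) := inferInstance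
  haveI hη : IsIso (R.map η) := by
    haveI : IsIso (R.map η ≫ adj.counit.app (R.obj H)) := by
      rw [adj.left_triangle_components H]
      exact IsIso.id (R.obj H)
    exact IsIso.of_isIso_comp_right _ (adj.counit.app (R.obj H))
  have sq : ∀ {V : Scheme.{u}} (k : V ⟶ X) [IsOpenImmersion k],
      IsPullback ((Scheme.Modules.restrictFunctor k).map (pullback.fst η (P.map ψ)))
        ((Scheme.Modules.restrictFunctor k).map (pullback.snd η (P.map ψ)))
        ((Scheme.Modules.restrictFunctor k).map η)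
        ((Scheme.Modules.restrictFunctor k).map (P.map ψ)) := fun k _ =>
    (IsPullback.of_hasPullback η (P.map ψ)).map (Scheme.Modules.restrictFunctor k)
  haveI : IsIso (R.map (pullback.snd η (P.map ψ))) := (sq j).isIso_snd_of_isIso
  haveI : IsIso (adj.counit.app G) := inferInstance
  haveI hq : (pullback η (P.map ψ)).IsQuasicoherent := by
    haveI : (H ⊞ P.obj G).IsQuasicoherent := QCoh.Closure.isQCoh_biprod
    let d : H ⊞ P.obj G ⟶ P.obj (R.obj H) := biprod.desc η (-P.map ψ)
    haveI := QCoh.Closure.isQCoh_kernel d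
    have w : (kernel.ι d ≫ biprod.fst) ≫ η = (kernel.ι d ≫ biprod.snd) ≫ P.map ψ := by
      have h := kernel.condition d
      simp only [d, biprod.desc_eq, Preadditive.comp_add, Preadditive.comp_neg] at h
      rw [Category.assoc, Category.assoc]
      exact sub_eq_zero.mp ((sub_eq_add_neg _ _).trans h)
    let e : pullback η (P.map ψ) ≅ kernel d :=
      { hom := kernel.lift d (biprod.lift (pullback.fst η (P.map ψ)) (pullback.snd η (P.map ψ))) (by
          simp [d, pullback.condition])
        inv := pullback.lift (kernel.ι d ≫ biprod.fst) (kernel.ι d ≫ biprod.snd) w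
        hom_inv_id := by
          apply pullback.hom_ext <;>
            simp only [Category.assoc, Category.id_comp, pullback.lift_fst, pullback.lift_snd,
              kernel.lift_ι_assoc, biprod.lift_fst, biprod.lift_snd]
        inv_hom_id := by
          rw [← cancel_mono (kernel.ι d), Category.assoc, kernel.lift_ι, Category.id_comp]
          apply biprod.hom_ext <;>
            simp only [Category.assoc, biprod.lift_fst, biprod.lift_snd, pullback.lift_fst,
              pullback.lift_snd] }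
    exact CohBasics.Closure.isQCoh_of_iso e.symm
  refine ⟨pullback η (P.map ψ), pullback.fst η (P.map ψ),
    asIso (R.map (pullback.snd η (P.map ψ)) ≫ adj.counit.app G), hq, ?_, fun D hD => ?_⟩
  · have n1 : R.map (P.map ψ) ≫ adj.counit.app (R.obj H) = adj.counit.app G ≫ ψ :=
      adj.counit.naturality ψ
    have n2 : R.map η ≫ adj.counit.app (R.obj H) = 𝟙 (R.obj H) := adj.left_triangle_components H
    show (R.map (pullback.snd η (P.map ψ)) ≫ adj.counit.app G) ≫ ψ = R.map (pullback.fst η (P.map ψ))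
    refine (Category.assoc _ _ _).trans ((congrArg (R.map _ ≫ ·) n1.symm).trans ?_)
    refine ((Category.assoc _ _ _).symm.trans (congrArg (· ≫ _) ((R.map_comp _ _).symm.trans
      ((congrArg R.map pullback.condition.symm).trans (R.map_comp _ _))))).trans ?_
    exact (Category.assoc _ _ _).trans ((congrArg (R.map _ ≫ ·) n2).trans (Category.comp_id _))
  · haveI : IsIso ((Scheme.Modules.restrictFunctor D.ι).map (P.map ψ)) := by
      refine Scheme.Modules.Hom.isIso_iff_isIso_app.mpr fun B => ?_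
      show IsIso (ψ.app (j ⁻¹ᵁ (D.ι ''ᵁ B)))
      refine app_isIso ψ _ fun z hz => hD z ?_
      obtain ⟨b, -, hb⟩ : j z ∈ D.ι ''ᵁ B := hz
      exact hb ▸ b.2
    exact (sq D.ι).isIso_fst_of_isIso

/-- Bijectivity on sections from an isomorphism of restrictions. -/
theorem bijective_of_isIso_restrict {A B : X.Modules} (φ : A ⟶ B) (E : X.Opens)
    [IsIso ((Scheme.Modules.restrictFunctor E.ι).map φ)] : Function.Bijective (appL φ E) := by
  haveI := app_isIso φ E fun x hx => IdealMul.Main.stalkMap_bijective φ hx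
  exact ConcreteCategory.bijective_of_isIso (φ.app E)

/-- Free modules on an affine scheme onto a module with finite sections. -/
theorem exists_epi_free {V : X.Opens} (hV : IsAffineOpen V) (M : X.Modules) [M.IsQuasicoherent]
    (hM : Module.Finite Γ(X, V) Γ(M, V)) :
    ∃ (G₀ : (Spec Γ(X, V)).Modules) (p : G₀ ⟶ M.restrict hV.fromSpec),
      G₀.IsQuasicoherent ∧ CohB1.IsFP G₀ ∧ Epi p := by
  obtain ⟨n, t, ht⟩ := @Module.Finite.exists_fin Γ(X, V) Γ(M, V) _ _ _ hM
  have e : hV.fromSpec ''ᵁ ⊤ = V := by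
    rw [Scheme.Hom.image_top_eq_opensRange, hV.opensRange_fromSpec]
  let t' : Fin n → Γ(M.restrict hV.fromSpec, ⊤) := fun k => M.presheaf.map (eqToHom e).op (t k)
  have hfree : FlatMod.IsFinLocFree (FlatMod.freeMod (Spec Γ(X, V)) n) :=
    TensorMod.LocFree.of_rank (TensorMod.LocFree.isFinLocFree_freeMod _ n)
  refine ⟨FlatMod.freeMod (Spec Γ(X, V)) n, Modules.Free.freeHom t',
    Modules.AffineSections.isQCoh_of_isFinLocFree hfree, TensorMod.FPConv.isFP_of_isFinLocFree hfree,
    (epi_iff_stalkMapₗ_surjective _).mpr fun y v => ?_⟩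
  have hspan := CohBasics.Affine.germ_span_eq_top (M := M) hV _ ht
    (x := hV.fromSpec y) (hV.range_fromSpec.le ⟨y, rfl⟩)
  let r := Modules.StalkRestrict.restrictStalkAddEquiv hV.fromSpec M y
  have h2 := Modules.StalkRestrict.span_image_restrictStalkAddEquiv hV.fromSpec M y
    (Set.range fun k => (M.restrict hV.fromSpec).presheaf.germ ⊤ y trivial (t' k))
  have h3 : r v ∈ r '' (Submodule.span ((Spec Γ(X, V)).presheaf.stalk y)
      (Set.range fun k => (M.restrict hV.fromSpec).presheaf.germ ⊤ y trivial (t' k)) : Set _) := by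
    refine (Set.ext_iff.mp h2 _).mp ?_
    refine Submodule.span_mono ?_ (hspan ▸ Submodule.mem_top)
    rintro _ ⟨_, ⟨k, rfl⟩, rfl⟩
    refine ⟨_, ⟨k, rfl⟩, ?_⟩
    refine (Modules.StalkRestrict.restrictStalkAddEquiv_germ hV.fromSpec M (U := ⊤) trivial _).trans ?_
    exact TopCat.Presheaf.germ_res_apply _ _ _ _ _
  obtain ⟨w, hw, hwv⟩ := h3
  rw [r.injective hwv] at hw
  refine LinearMap.mem_range.mp (Submodule.span_le.mpr ?_ hw)
  rintro _ ⟨k, rfl⟩
  exact ⟨_, Modules.Free.freeHom_stalk_germ t' y k⟩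

/-- Covering a quasi-compact open by finitely many affine opens inside it. -/
theorem exists_cover {U : X.Opens} (hU : IsCompact (U : Set X)) :
    ∃ s : Finset X.affineOpens, (∀ W ∈ s, W.1 ≤ U) ∧ ∀ x ∈ U, ∃ W ∈ s, x ∈ W.1 := by
  obtain ⟨s, hs, he⟩ := isCompact_and_isOpen_iff_finite_and_eq_biUnion_affineOpens.mp
    (⟨hU, U.2⟩ : IsCompact (U : Set X) ∧ IsOpen (U : Set X))
  refine ⟨hs.toFinset, fun W hW x hx => ?_, fun x hx => ?_⟩
  · show x ∈ (U : Set X)
    rw [he]
    exact Set.mem_biUnion (hs.mem_toFinset.mp hW) hx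
  · obtain ⟨W, hW, hxW⟩ := Set.mem_iUnion₂.mp (he.le hx)
    exact ⟨W, hs.mem_toFinset.mpr hW, hxW⟩

variable [CompactSpace X] [QuasiSeparatedSpace X]

omit [CompactSpace X] in
theorem quasiCompact_fromSpec {V : X.Opens} (hV : IsAffineOpen V) : QuasiCompact hV.fromSpec := by
  refine ⟨fun D hDo hD => ?_⟩
  rw [hV.fromSpec.isOpenEmbedding.isInducing.isCompact_iff, Set.image_preimage_eq_inter_range,
    hV.range_fromSpec, Set.inter_comm]
  exact QuasiSeparatedSpace.inter_isCompact _ _ V.2 hV.isCompact hDo hD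

/-- One more affine open of finite presentation. -/
theorem exists_step (H : X.Modules) [H.IsQuasicoherent] (hH : CohB1.IsFT H)
    (s : Finset X.affineOpens) (hs : ∀ W ∈ s, FPAt H W.1) (V : X.affineOpens) :
    ∃ (H' : X.Modules) (φ : H' ⟶ H), H'.IsQuasicoherent ∧ CohB1.IsFT H' ∧
      (∀ W ∈ s, FPAt H' W.1 ∧ Function.Bijective (appL φ W.1)) ∧ FPAt H' V.1 := by
  classical
  have hV2 : IsAffineOpen V.1 := V.2
  let j := hV2.fromSpec
  haveI : QuasiCompact j := quasiCompact_fromSpec hV2
  haveI : SheafOfModules.IsFiniteType (R := X.ringCatSheaf) H := hH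
  obtain ⟨G₀, p, hG₀q, hG₀, hp⟩ := exists_epi_free hV2 H (CohBasics.Affine.finite_sections V.2)
  haveI := hG₀q
  haveI := hp
  choose c hc₁ hc₂ using fun W : {W // W ∈ s} =>
    exists_cover (U := j ⁻¹ᵁ W.1.1) (j.isCompact_preimage W.1.2.isCompact)
  let s' : Finset (Spec Γ(X, V.1)).affineOpens := Finset.univ.biUnion c
  have hs' : ∀ W' ∈ s', FPAt (H.restrict j) W'.1 := by
    intro W' hW'
    obtain ⟨W, -, hW⟩ := Finset.mem_biUnion.mp hW'
    refine (fp_restrict_iff j H W'.1 rfl).mpr (fpAt_of_le W.1.2 (W'.2.image_of_isOpenImmersion j)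
      (?_ : j ''ᵁ W'.1 ≤ W.1.1) (hs W.1 W.2))
    rintro _ ⟨z, hz, rfl⟩
    exact hc₁ W W' hW hz
  obtain ⟨G, ψ, hGq, hGfp, -, hψ⟩ := exists_quot hG₀ p s' hs'
  haveI := hGq
  obtain ⟨H₁, π, e, hH₁, -, hπ⟩ := exists_lift_module j H G ψ
  haveI := hH₁
  have hbij : ∀ W ∈ s, Function.Bijective (appL π W.1) := by
    intro W hW
    haveI := hπ W.1 fun z hz => by
      obtain ⟨W', hW', hz'⟩ := hc₂ ⟨W, hW⟩ z hz
      exact stalk_bijective ψ W'.2
        (hψ W' (Finset.mem_biUnion.mpr ⟨⟨W, hW⟩, Finset.mem_univ _, hW'⟩)) hz'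
    exact bijective_of_isIso_restrict π W.1
  have hV : FPAt H₁ V.1 := by
    refine (fp_restrict_iff j H₁ ⊤ (by
      rw [Scheme.Hom.image_top_eq_opensRange, hV2.opensRange_fromSpec])).mp ?_
    exact (fpAt_of_bijective e.hom (ConcreteCategory.bijective_of_isIso (e.hom.app ⊤))).mpr
      (fpAt_of_isFP hGfp (isAffineOpen_top _))
  have hall : ∀ W ∈ insert V s, FPAt H₁ W.1 := by
    intro W hW
    rcases Finset.mem_insert.mp hW with rfl | hW
    · exact hV
    · exact (fpAt_of_bijective π (hbij W hW)).mpr (hs W hW)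
  obtain ⟨S, i, -, hSq, hSf, hi⟩ :=
    exists_ft_sub_all H₁ (insert V s) fun W hW => finite_of_fpAt (hall W hW)
  refine ⟨S, i ≫ π, hSq, hSf, fun W hW => ?_,
    (fpAt_of_bijective i (hi V (Finset.mem_insert_self _ _))).mpr hV⟩
  have hiW := hi W (Finset.mem_insert_of_mem hW)
  refine ⟨(fpAt_of_bijective i hiW).mpr (hall W (Finset.mem_insert_of_mem hW)), ?_⟩
  rw [appL_comp, LinearMap.coe_comp]
  exact (hbij W hW).comp hiW

/-- Finite presentation everywhere, without change on `s`. -/
theorem exists_fp_map (H : X.Modules) [H.IsQuasicoherent] (hH : CohB1.IsFT H)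
    (s : Finset X.affineOpens) (hs : ∀ W ∈ s, FPAt H W.1) :
    ∃ (G : X.Modules) (φ : G ⟶ H), G.IsQuasicoherent ∧ CohB1.IsFP G ∧
      ∀ W ∈ s, Function.Bijective (appL φ W.1) := by
  classical
  obtain ⟨t, -, ht⟩ := exists_cover (X := X) (U := ⊤) (by simpa using isCompact_univ)
  suffices ∀ t : Finset X.affineOpens, ∃ (G : X.Modules) (φ : G ⟶ H), G.IsQuasicoherent ∧
      CohB1.IsFT G ∧ (∀ W ∈ s, Function.Bijective (appL φ W.1)) ∧ ∀ W ∈ s ∪ t, FPAt G W.1 by
    obtain ⟨G, φ, hq, -, hb, hfp⟩ := this t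
    haveI := hq
    refine ⟨G, φ, hq, isFP_of_fpAt fun x => ?_, hb⟩
    obtain ⟨W, hW, hx⟩ := ht x trivial
    exact ⟨W.1, W.2, hx, hfp W (Finset.mem_union_right s hW)⟩
  intro t
  induction t using Finset.induction_on with
  | empty =>
    refine ⟨H, 𝟙 H, inferInstance, hH, fun W _ => ?_, fun W hW => hs W (by simpa using hW)⟩
    exact ConcreteCategory.bijective_of_isIso ((𝟙 H : H ⟶ H).app W.1)
  | insert V t _ ih =>
    obtain ⟨G, φ, hq, hf, hb, hfp⟩ := ih
    haveI := hq
    obtain ⟨G', φ', hq', hf', hs', hV⟩ := exists_step G hf (s ∪ t) hfp V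
    refine ⟨G', φ' ≫ φ, hq', hf', fun W hW => ?_, fun W hW => ?_⟩
    · rw [appL_comp, LinearMap.coe_comp]
      exact (hb W hW).comp (hs' W (Finset.mem_union_left t hW)).2
    · rw [Finset.union_insert, Finset.mem_insert] at hW
      rcases hW with rfl | hW
      exacts [hV, (hs' W hW).1]

/-- A finitely presented module mapping onto the sections over a given affine open. -/
theorem exists_fp_onto (F : X.Modules) [F.IsQuasicoherent] (hF : CohB1.IsFT F) (V : X.affineOpens) :
    ∃ (G : X.Modules) (φ : G ⟶ F), G.IsQuasicoherent ∧ CohB1.IsFP G ∧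
      Function.Surjective (appL φ V.1) := by
  classical
  have hV2 : IsAffineOpen V.1 := V.2
  let j := hV2.fromSpec
  haveI : QuasiCompact j := quasiCompact_fromSpec hV2
  haveI : SheafOfModules.IsFiniteType (R := X.ringCatSheaf) F := hF
  obtain ⟨G₀, p, hG₀q, hG₀, hp⟩ := exists_epi_free hV2 F (CohBasics.Affine.finite_sections V.2)
  haveI := hG₀q
  haveI := hp
  obtain ⟨H₁, π, e, hH₁, he, -⟩ := exists_lift_module j F G₀ p
  haveI := hH₁
  have htop : j ''ᵁ ⊤ = V.1 := by
    rw [Scheme.Hom.image_top_eq_opensRange, hV2.opensRange_fromSpec]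
  have hV : FPAt H₁ V.1 := (fp_restrict_iff j H₁ ⊤ htop).mp
    ((fpAt_of_bijective e.hom (ConcreteCategory.bijective_of_isIso (e.hom.app ⊤))).mpr
      (fpAt_of_isFP hG₀ (isAffineOpen_top _)))
  obtain ⟨S, i, -, hSq, hSf, hi⟩ := exists_ft_sub_all H₁ {V}
    (fun W hW => by rw [Finset.mem_singleton] at hW; subst hW; exact finite_of_fpAt hV)
  haveI := hSq
  obtain ⟨G, φ, hq, hfp, hφ⟩ := exists_fp_map S hSf {V} (fun W hW => by
    rw [Finset.mem_singleton] at hW; subst hW
    exact (fpAt_of_bijective i (hi W (Finset.mem_singleton_self _))).mpr hV)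
  refine ⟨G, φ ≫ i ≫ π, hq, hfp, ?_⟩
  rw [appL_comp, appL_comp, LinearMap.coe_comp, LinearMap.coe_comp]
  refine Function.Surjective.comp (Function.Surjective.comp ?_ (hi V (Finset.mem_singleton_self _)).2)
    (hφ V (Finset.mem_singleton_self _)).2
  haveI : Epi ((Scheme.Modules.restrictFunctor j).map π) := by
    rw [← he]; infer_instance
  have hsur : Function.Surjective (appL ((Scheme.Modules.restrictFunctor j).map π) ⊤) :=
    appL_surjective _ (isAffineOpen_top _)
  have key : ∀ {A : X.Opens}, A = V.1 → Function.Surjective (appL π A) →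
      Function.Surjective (appL π V.1) := fun e h => e ▸ h
  exact key htop hsur

/-- **Every module of finite type is a quotient of a finitely presented one.** -/
theorem exists_epi_fp (F : X.Modules) [F.IsQuasicoherent] (hF : CohB1.IsFT F) :
    ∃ (G : X.Modules) (π : G ⟶ F), G.IsQuasicoherent ∧ CohB1.IsFP G ∧ Epi π := by
  classical
  obtain ⟨t, -, ht⟩ := exists_cover (X := X) (U := ⊤) (by simpa using isCompact_univ)
  suffices ∀ t : Finset X.affineOpens, ∃ (G : X.Modules) (φ : G ⟶ F), G.IsQuasicoherent ∧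
      CohB1.IsFP G ∧ ∀ W ∈ t, Function.Surjective (appL φ W.1) by
    obtain ⟨G, φ, hq, hfp, hs⟩ := this t
    haveI := hq
    obtain ⟨l, hl⟩ := exists_lift (Abelian.image.ι φ) (𝟙 F) fun x => by
      obtain ⟨W, hW, hx⟩ := ht x trivial
      refine ⟨W.1, W.2, hx, ?_⟩
      rintro v -
      obtain ⟨a, rfl⟩ := hs W hW v
      refine ⟨appL (Abelian.factorThruImage φ) W.1 a, ?_⟩
      rw [← LinearMap.comp_apply, ← appL_comp, Abelian.image.fac]
    haveI : IsSplitEpi (Abelian.image.ι φ) := IsSplitEpi.mk' ⟨l, hl⟩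
    refine ⟨G, φ, hq, hfp, ?_⟩
    rw [← Abelian.image.fac φ]
    infer_instance
  intro t
  induction t using Finset.induction_on with
  | empty =>
    have hz := isZero_kernel_of_mono (𝟙 F)
    haveI := QCoh.Closure.isQCoh_kernel (𝟙 F)
    refine ⟨kernel (𝟙 F), kernel.ι (𝟙 F), inferInstance, isFP_of_fpAt fun x => ?_, by simp⟩
    obtain ⟨V, hV, hx, -⟩ := exists_isAffineOpen_mem_and_subset (U := (⊤ : X.Opens)) (x := x) trivial
    haveI := Modules.AffineSections.subsingleton_sections hz V
    exact ⟨V, hV, hx, Module.finitePresentation_of_free_of_surjective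
      (0 : (Fin 0 → Γ(X, V)) →ₗ[Γ(X, V)] Γ(kernel (𝟙 F), V)) (fun v => ⟨0, Subsingleton.elim _ _⟩)
      (by rw [LinearMap.ker_zero]; exact Module.Finite.fg_top)⟩
  | insert V t _ ih =>
    obtain ⟨G, φ, hq, hfp, hs⟩ := ih
    obtain ⟨G', φ', hq', hfp', hs'⟩ := exists_fp_onto F hF V
    haveI := hq
    haveI := hq'
    haveI : (G ⊞ G').IsQuasicoherent := QCoh.Closure.isQCoh_biprod
    refine ⟨G ⊞ G', biprod.desc φ φ', inferInstance, isFP_of_fpAt fun x => ?_, fun W hW v => ?_⟩
    · obtain ⟨U, hU, hx, -⟩ := exists_isAffineOpen_mem_and_subset (U := (⊤ : X.Opens)) (x := x) trivial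
      exact ⟨U, hU, hx, fpAt_biprod (fpAt_of_isFP hfp hU) (fpAt_of_isFP hfp' hU)⟩
    · rcases Finset.mem_insert.mp hW with rfl | hW
      · obtain ⟨a, rfl⟩ := hs' v
        exact ⟨appL biprod.inr W.1 a, by rw [← LinearMap.comp_apply, ← appL_comp, biprod.inr_desc]⟩
      · obtain ⟨a, rfl⟩ := hs W hW v
        exact ⟨appL biprod.inl W.1 a, by rw [← LinearMap.comp_apply, ← appL_comp, biprod.inl_desc]⟩

end Groth.Agent.Lib.CohDelta.FPApprox.Approx
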